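import Groth.Agent.Lib.FunField.RR
import Groth.Agent.Lib.FunField.Galois
import Groth.Agent.Lib.FunField.Weights
import Groth.Agent.Lib.InvolFF17.Main
import Mathlib.RingTheory.Algebraic.Integral
import Mathlib.Algebra.QuadraticAlgebra.Basic

/-!
# Two double covers of function fields: the Castelnuovo–Severi inequality

If a function field `K` is of degree two over two different subfields `F₁`, `F₂` then
`g(K) ≤ 2 g(F₁) + 2 g(F₂) + 1` (characteristic different from two, algebraically closed constants).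
-/

set_option autoImplicit false

open FunFld WithZero

namespace Groth.Agent.DoubleCov17

open Groth.Agent.FunField

variable {k K : Type*} [Field k] [IsAlgClosed k] [Field K] [Algebra k K]

/-- An automorphism fixing every place is the identity. -/
theorem eq_refl_of_forall_val (hK : IsFunctionField k K) (τ : K ≃ₐ[k] K)
    (h : ∀ (P : Place k K) (z : K), P.1 (τ z) = P.1 z) (z : K) : τ z = z := by
  have hc : ∀ u : K, u ≠ 0 → ∃ c : k, τ u = algebraMap k K c * u := fun u hu => by
    have hL : τ u / u ∈ FunFld.L (0 : Divisor k K) := fun P => by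
      rw [map_div₀, h P u, div_self ((Valuation.ne_zero_iff _).2 hu)]
      simp
    obtain ⟨c, hc⟩ := hK.2 _ (isAlgebraic_of_mem_L_zero hK.1 hL)
    exact ⟨c, by rw [hc, div_mul_cancel₀ _ hu]⟩
  by_cases hz : z ∈ Set.range (algebraMap k K)
  · obtain ⟨a, rfl⟩ := hz; exact τ.commutes a
  have hz0 : z ≠ 0 := fun e => hz ⟨0, by rw [e, map_zero]⟩
  have hz1 : z + 1 ≠ 0 := fun e => hz ⟨-1, by rw [map_neg, map_one]; linear_combination -e⟩
  obtain ⟨c, hcz⟩ := hc z hz0
  obtain ⟨d, hdz⟩ := hc (z + 1) hz1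
  rw [map_add, map_one, hcz] at hdz
  by_cases hcd : c = d
  · subst hcd
    have h1 : algebraMap k K c = 1 := by linear_combination -hdz
    rw [hcz, h1, one_mul]
  · refine absurd ⟨(d - 1) / (c - d), ?_⟩ hz
    have hne : algebraMap k K c - algebraMap k K d ≠ 0 :=
      sub_ne_zero.2 fun e => hcd ((algebraMap k K).injective e)
    rw [map_div₀, map_sub, map_sub, map_one, div_eq_iff hne]
    linear_combination -hdz

theorem val_le_conorm {F : Type*} [Field F] [Algebra k F] [Algebra F K] [IsScalarTower k F K]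
    [FiniteDimensional F K] (hF : FF k F) (D : Divisor k F) {u : F} (hu : u ∈ FunFld.L D) (P : Place k K) :
    P.1 (algebraMap F K u) ≤ exp (FunFld.conorm K D P) := by
  rw [isOverWith_ramIdx (isOver_under hF P) u, conorm_apply hF]
  refine (pow_le_pow_left₀ zero_le (hu _) _).trans (le_of_eq ?_)
  rw [← exp_nsmul, nsmul_eq_mul]

/-- A quadratic extension in characteristic not two is Galois with group of order two. -/
theorem exists_conj {F : Type*} [Field F] [Algebra k F] [Algebra F K] (h2 : (2 : k) ≠ 0)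
    (hd : Module.finrank F K = 2) :
    (∃ σ : K ≃ₐ[F] K, σ ≠ 1 ∧ (∀ τ : K ≃ₐ[F] K, τ = 1 ∨ τ = σ) ∧
      ∀ z : K, σ z = z ↔ z ∈ Set.range (algebraMap F K)) ∧ IsGalois F K := by
    haveI : Algebra.IsQuadraticExtension F K := { finrank_eq_two' := hd }
    haveI : Normal F K := Algebra.IsQuadraticExtension.normal F K
    haveI : FiniteDimensional F K := Module.finite_of_finrank_eq_succ hd
    haveI : Algebra.IsSeparable F K := by
      have h2F : (2 : F) ≠ 0 := by
        rw [← map_ofNat (algebraMap k F) 2]; exact (map_ne_zero _).2 h2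
      refine ⟨fun z => ?_⟩
      have hint := IsIntegral.of_finite F z
      rw [IsSeparable, Polynomial.separable_iff_derivative_ne_zero (minpoly.irreducible hint)]
      intro hder
      have hdeg := minpoly.natDegree_le (A := F) z
      rw [hd] at hdeg
      have hpos := minpoly.natDegree_pos hint
      have hc := congrArg (fun p => Polynomial.coeff p ((minpoly F z).natDegree - 1)) hder
      simp only [Polynomial.coeff_derivative, Polynomial.coeff_zero] at hc
      rw [Nat.sub_add_cancel hpos, (minpoly.monic hint).coeff_natDegree, one_mul] at hc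
      interval_cases hn : (minpoly F z).natDegree
      · simp at hc
      · norm_num at hc
        exact h2F (by linear_combination hc)
    haveI : IsGalois F K := ⟨⟩
    have hcard : Nat.card (K ≃ₐ[F] K) = 2 :=
      (IsGalois.card_aut_eq_finrank F K).trans (Algebra.IsQuadraticExtension.finrank_eq_two F K)
    obtain ⟨σ, hσ, huniq⟩ : ∃ σ : K ≃ₐ[F] K, σ ≠ 1 ∧ ∀ τ : K ≃ₐ[F] K, τ ≠ 1 → τ = σ := by
      obtain ⟨σ, hσ, h⟩ := (Nat.card_eq_two_iff' (1 : K ≃ₐ[F] K)).1 hcard
      exact ⟨σ, hσ, h⟩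
    have hall : ∀ τ : K ≃ₐ[F] K, τ = 1 ∨ τ = σ := fun τ => (em (τ = 1)).imp_right (huniq τ)
    refine ⟨⟨σ, hσ, hall, fun z => ⟨fun hz => (IsGalois.mem_range_algebraMap_iff_fixed z).2 fun τ => ?_,
      fun ⟨a, ha⟩ => ha ▸ σ.commutes a⟩⟩, inferInstance⟩
    rcases hall τ with rfl | rfl
    · rfl
    · exact hz

section Ineq

variable {F₁ F₂ : Type*} [Field F₁] [Field F₂] [Algebra k F₁] [Algebra k F₂] [Algebra F₁ K] [Algebra F₂ K]
  [IsScalarTower k F₁ K] [IsScalarTower k F₂ K]

theorem finiteDimensional_of_two {F L : Type*} [Field F] [Field L] [Algebra F L]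
    (h : Module.finrank F L = 2) : FiniteDimensional F L :=
  Module.finite_of_finrank_eq_succ h

/-- The inequality, given two places with the same trace on `F₂` and different traces on `F₁`. -/
theorem genus_le_of_places (hK : IsFunctionField k K) (hF₁ : IsFunctionField k F₁) (hF₂ : IsFunctionField k F₂)
    [FiniteDimensional F₁ K] [FiniteDimensional F₂ K]
    (h₁ : Module.finrank F₁ K = 2) (h₂ : Module.finrank F₂ K = 2) (Q Q' : Place k K)
    (he : under (K := F₂) hF₂.1 Q = under (K := F₂) hF₂.1 Q')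
    (hne : under (K := F₁) hF₁.1 Q ≠ under (K := F₁) hF₁.1 Q') :
    genus k K ≤ 2 * genus k F₁ + 2 * genus k F₂ + 1 := by
  classical
  set R := under (K := F₁) hF₁.1 Q with hR
  -- a function of `F₁` with poles only at `R`
  set D₁ : Divisor k F₁ := Finsupp.single R ((genus k F₁ : ℤ) + 1) with hD₁
  have hdR : R.deg = 1 := deg_eq_one hF₁.1 R
  have hd₁ : D₁.deg = (genus k F₁ : ℤ) + 1 := by rw [hD₁, deg_single, hdR]; simp
  have hell : 2 ≤ ell D₁ := by
    have := delta_le_genus hF₁.1 D₁
    rw [delta, hd₁] at this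
    omega
  obtain ⟨y, hy, hyc⟩ : ∃ y ∈ FunFld.L D₁, y ∉ Set.range (algebraMap k F₁) := by
    by_contra! hall
    have hle : FunFld.L D₁ ≤ Submodule.span k {(1 : F₁)} := fun y hy => by
      obtain ⟨a, rfl⟩ := hall y hy
      exact Submodule.mem_span_singleton.2 ⟨a, by rw [Algebra.smul_def, mul_one]⟩
    have := Submodule.finrank_mono hle
    rw [finrank_span_singleton one_ne_zero] at this
    change ell D₁ ≤ 1 at this
    omega
  have hyt : Transcendental k y := fun ha => hyc (hF₁.2 y ha)
  have hy0 : y ≠ 0 := ne_zero_of_transcendental hyt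
  have honly : ∀ P : Place k F₁, P.ord y < 0 → P = R := fun P hP => by
    by_contra hPR
    have := (mem_L_iff_ord hy0).1 hy P
    rw [hD₁, Finsupp.single_eq_of_ne hPR] at this
    omega
  have hRy : R.ord y < 0 := by
    obtain ⟨P, hP⟩ := exists_pole_of_transcendental hF₁.1 hyt
    rwa [honly P hP] at hP
  -- it is not in `F₂`
  have hy2 : algebraMap F₁ K y ∉ Set.range (algebraMap F₂ K) := by
    rintro ⟨z, hz⟩
    have e1 := ord_algebraMap (K' := K) hF₁.1 Q y
    have e2 := ord_algebraMap (K' := K) hF₁.1 Q' y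
    rw [← hz, ord_algebraMap (K' := K) hF₂.1] at e1 e2
    have p1 := isOverWith_pos (isOverWith_ramIdx (isOver_under (K := F₁) hF₁.1 Q))
    have p2 := isOverWith_pos (isOverWith_ramIdx (isOver_under (K := F₂) hF₂.1 Q))
    have p3 := isOverWith_pos (isOverWith_ramIdx (isOver_under (K := F₂) hF₂.1 Q'))
    rw [← he] at e2 p3
    rw [← hR] at e1 p1
    have hneg : (ramIdx Q R : ℤ) * R.ord y < 0 := mul_neg_of_pos_of_neg (by exact_mod_cast p1) hRy
    rw [← e1] at hneg
    have hz' : (under (K := F₂) hF₂.1 Q).ord z < 0 := by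
      by_contra h
      exact absurd hneg (not_lt.2 (mul_nonneg (Int.natCast_nonneg _) (not_lt.1 h)))
    have hneg' : (ramIdx Q' (under (K := F₂) hF₂.1 Q) : ℤ) * (under (K := F₂) hF₂.1 Q).ord z < 0 :=
      mul_neg_of_pos_of_neg (by exact_mod_cast p3) hz'
    rw [e2] at hneg'
    refine hne (honly _ ?_).symm
    by_contra h
    exact absurd hneg' (not_lt.2 (mul_nonneg (Int.natCast_nonneg _) (not_lt.1 h)))
  -- a large divisor of `F₂`
  obtain ⟨S⟩ := nonempty_place hF₂.1
  set D₂ : Divisor k F₂ := Finsupp.single S (genus k K : ℤ) with hD₂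
  have hd₂ : D₂.deg = (genus k K : ℤ) := by rw [hD₂, deg_single, deg_eq_one hF₂.1 S]; simp
  set E : Divisor k K := FunFld.conorm K D₁ + FunFld.conorm K D₂ with hE
  have hdE : E.deg = 2 * ((genus k F₁ : ℤ) + 1) + 2 * (genus k K : ℤ) := by
    rw [hE, deg_add, deg_conorm hF₁.1, deg_conorm hF₂.1, hd₁, hd₂, h₁, h₂]; norm_num
  have hD1n : ∀ P : Place k K, 0 ≤ FunFld.conorm K D₁ P := fun P => by
    rw [conorm_apply hF₁.1, hD₁, Finsupp.single_apply]
    split_ifs <;> positivity
  let Φ : (FunFld.L D₂ × FunFld.L D₂) →ₗ[k] FunFld.L E :=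
    { toFun := fun p => ⟨algebraMap F₂ K (p.1 : F₂) + algebraMap F₁ K y * algebraMap F₂ K (p.2 : F₂), fun P => by
        refine (P.1.map_add _ _).trans (max_le ?_ ?_)
        · refine (val_le_conorm hF₂.1 D₂ p.1.2 P).trans (exp_le_exp.2 ?_)
          rw [hE, Finsupp.add_apply]; linarith [hD1n P]
        · rw [map_mul, hE, Finsupp.add_apply, exp_add]
          exact mul_le_mul' (val_le_conorm hF₁.1 D₁ hy P) (val_le_conorm hF₂.1 D₂ p.2.2 P)⟩
      map_add' := fun p q => Subtype.ext (by simp [map_add]; ring)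
      map_smul' := fun c p => Subtype.ext (by
        simp [Algebra.smul_def, map_mul, ← IsScalarTower.algebraMap_apply]; ring) }
  have hΦ : Function.Injective Φ := by
    rw [injective_iff_map_eq_zero]
    rintro ⟨a, b⟩ hab
    have h0 : algebraMap F₂ K (a : F₂) + algebraMap F₁ K y * algebraMap F₂ K (b : F₂) = 0 :=
      congrArg Subtype.val hab
    by_cases hb : (b : F₂) = 0
    · rw [hb, map_zero, mul_zero, add_zero, map_eq_zero] at h0
      exact Prod.ext (Subtype.ext h0) (Subtype.ext hb)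
    · refine absurd ⟨-(a : F₂) / b, ?_⟩ hy2
      rw [map_div₀, map_neg, div_eq_iff (by simpa using hb)]
      linear_combination -h0
  haveI := finiteDimensional_L hF₂.1 D₂
  haveI := finiteDimensional_L hK.1 E
  have hle := LinearMap.finrank_le_finrank_of_injective hΦ
  rw [Module.finrank_prod] at hle
  change ell D₂ + ell D₂ ≤ ell E at hle
  have hlow := delta_le_genus hF₂.1 D₂
  rw [delta, hd₂] at hlow
  have htop := ell_of_large_deg hK E (by rw [hdE]; omega)
  rw [hdE] at htop
  omega

/-- The Castelnuovo–Severi inequality for two double covers. -/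
theorem range_eq_of_genus_lt (h2 : (2 : k) ≠ 0) (hK : IsFunctionField k K) (hF₁ : IsFunctionField k F₁)
    (hF₂ : IsFunctionField k F₂) (h₁ : Module.finrank F₁ K = 2) (h₂ : Module.finrank F₂ K = 2)
    (hg : 2 * genus k F₁ + 2 * genus k F₂ + 1 < genus k K) :
    Set.range (algebraMap F₁ K) = Set.range (algebraMap F₂ K) := by
  haveI := finiteDimensional_of_two h₁
  haveI := finiteDimensional_of_two h₂
  have hg' : 2 * genus k F₂ + 2 * genus k F₁ + 1 < genus k K := by omega
  -- the fibres agree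
  have hfib : ∀ Q Q' : Place k K, under (K := F₁) hF₁.1 Q = under (K := F₁) hF₁.1 Q' ↔
      under (K := F₂) hF₂.1 Q = under (K := F₂) hF₂.1 Q' := fun Q Q' => by
    constructor
    · intro he
      by_contra hne
      have := genus_le_of_places hK hF₂ hF₁ h₂ h₁ Q Q' he hne
      omega
    · intro he
      by_contra hne
      have := genus_le_of_places hK hF₁ hF₂ h₁ h₂ Q Q' he hne
      omega
  haveI : Algebra.IsQuadraticExtension F₁ K := { finrank_eq_two' := h₁ }
  haveI : Algebra.IsQuadraticExtension F₂ K := { finrank_eq_two' := h₂ }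
  obtain ⟨⟨σ₁, -, hall₁, hfix₁⟩, hgal₁⟩ := exists_conj (k := k) (F := F₁) h2 h₁
  obtain ⟨⟨σ₂, -, hall₂, hfix₂⟩, hgal₂⟩ := exists_conj (k := k) (F := F₂) h2 h₂
  have hsame₁ : ∀ Q : Place k K, under (K := F₁) hF₁.1 (mapPlace σ₁ Q) = under (K := F₁) hF₁.1 Q := fun Q =>
    (isOver_iff hF₁.1).1 ⟨_, isOverWith_mapPlace σ₁ (isOverWith_ramIdx (isOver_under hF₁.1 Q))⟩
  have hsame₂ : ∀ Q : Place k K, under (K := F₂) hF₂.1 (mapPlace σ₂ Q) = under (K := F₂) hF₂.1 Q := fun Q =>
    (isOver_iff hF₂.1).1 ⟨_, isOverWith_mapPlace σ₂ (isOverWith_ramIdx (isOver_under hF₂.1 Q))⟩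
  have hpl : ∀ Q : Place k K, mapPlace σ₁ Q = mapPlace σ₂ Q := fun Q => by
    have a := (hfib _ _).1 (hsame₁ Q)
    have b := (hfib _ _).2 (hsame₂ Q)
    obtain ⟨τ, hτ⟩ := exists_mapPlace_eq (K := F₁) (isOver_under hF₁.1 Q)
      (show IsOver (mapPlace σ₂ Q) (under (K := F₁) hF₁.1 Q) from b ▸ isOver_under hF₁.1 _)
    obtain ⟨υ, hυ⟩ := exists_mapPlace_eq (K := F₂) (isOver_under hF₂.1 Q)
      (show IsOver (mapPlace σ₁ Q) (under (K := F₂) hF₂.1 Q) from a ▸ isOver_under hF₂.1 _)
    rcases hall₁ τ with rfl | rfl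
    · have hQ : mapPlace σ₂ Q = Q := hτ.symm.trans (place_ext fun z => Iff.rfl)
      rcases hall₂ υ with rfl | rfl
      · exact (hυ.symm.trans (place_ext fun z => Iff.rfl)).trans hQ.symm
      · exact hυ.symm
    · exact hτ
  let τ : K ≃ₐ[k] K := (σ₂.restrictScalars k).trans (σ₁.symm.restrictScalars k)
  have hval : ∀ (P : Place k K) (z : K), P.1 (τ z) = P.1 z := fun P z => by
    have h := congrArg (fun R : Place k K => R.1 z) (hpl (mapPlace σ₁.symm P))
    simp only [mapPlace_apply, AlgEquiv.symm_apply_apply] at h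
    show P.1 (σ₁.symm (σ₂ z)) = P.1 z
    exact h.symm
  have hστ : ∀ z, σ₁ z = σ₂ z := fun z => by
    have h := congrArg σ₁ (eq_refl_of_forall_val hK τ hval z)
    simpa [τ] using h.symm
  ext z
  rw [← hfix₁, ← hfix₂, hστ]

end Ineq

end Groth.Agent.DoubleCov17
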